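import Groth.Agent.L02.SpRed.Space

/-!
The locus of geometrically reduced fibres of a morphism of algebraic spaces.
-/

set_option autoImplicit false
set_option linter.style.haveILetI false
set_option backward.isDefEq.respectTransparency.types false
set_option backward.isDefEq.respectTransparency false
universe u

open CategoryTheory CategoryTheory.Limits AlgebraicGeometry Topology AlgSp Groth.L23

namespace L02.SpRed

variable {S : Scheme.{u}} {X Y : Sp S}

/-- The points of the target with geometrically reduced fibre. -/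
def Locus (f : X ⟶ Y) : Set (Points Y) := {y | ∀ k : FieldPt Y, Points.mk k = y → GoodPt f k}

theorem setOf_eq_locus (f : X ⟶ Y) :
    {y : Points Y | ∀ (k : FieldPt Y), Points.mk k = y →
        ∀ (k' : Type u) [Field k'] (φ : k.K →+* k') (Xk' : Sp S) (a : Xk' ⟶ X)
          (b : Xk' ⟶ (yon S).obj (Over.mk (Spec.map (CommRingCat.ofHom φ) ≫ k.str))),
          IsPullback a b f ((yon S).map (Over.homMk (Spec.map (CommRingCat.ofHom φ)) rfl :
            Over.mk (Spec.map (CommRingCat.ofHom φ) ≫ k.str) ⟶ k.pt) ≫ k.toHom) →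
          EtaleLocally (fun U => IsReduced U) Xk'} = Locus f :=
  Set.ext fun _ => forall_congr' fun k => forall_congr' fun _ => template_iff f k

theorem mem_locus_iff (hX : IsAlgSpace X) (hY : IsAlgSpace Y) {f : X ⟶ Y} {V W : Over S}
    (b : (yon S).obj V ⟶ Y) {P : Sp S} {fP : P ⟶ X} {sP : P ⟶ (yon S).obj V} (sq : IsPullback fP sP f b)
    {c : (yon S).obj W ⟶ P} (hc : RepWith @Etale c) (hcs : RepWith @Surjective c) (g : W ⟶ V)
    (hg : c ≫ sP = (yon S).map g) (v : V.left) :
    Points.ofPt b v ∈ Locus f ↔ GeometricallyReduced (g.left.fiberToSpecResidueField v) :=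
  (goodPt_iff_forall hX hY rfl).trans (goodPt_ofPt_iff hX hY b sq hc hcs g hg v)

theorem lfp_chart (hX : IsAlgSpace X) (hY : IsAlgSpace Y) {f : X ⟶ Y} {Q : MorphismProperty Scheme.{u}}
    (hQ : EtLocal Q) (hf : LocP Q f) {V W : Over S}
    {b : (yon S).obj V ⟶ Y} {P : Sp S} {fP : P ⟶ X} {sP : P ⟶ (yon S).obj V} (sq : IsPullback fP sP f b)
    {c : (yon S).obj W ⟶ P} (hc : RepWith @Etale c) (g : W ⟶ V) (hg : c ≫ sP = (yon S).map g) : Q g.left :=
  locP_of_isPullback hQ hX hY (IsAlgSpace.yon_obj V) sq hf c (𝟙 _) g hc (repWith_of_isIso _)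
    (by rw [hg, Category.comp_id])

theorem isConstructible_locus (hX : IsAlgSpace X) (hY : IsAlgSpace Y) {f : X ⟶ Y} (hqc : IsQuasiCompactMor f)
    (hf : LocP @LocallyOfFinitePresentation f) (V : Over S) [IsAffine V.left] (a : (yon S).obj V ⟶ Y) :
    IsConstructible (Points.ofPt a ⁻¹' Locus f) := by
  have sq := IsPullback.of_hasPullback f a
  obtain ⟨W, c, hc, hcs, hW⟩ := isQuasiCompactMor_of_pullback hqc a
  haveI : CompactSpace W.left := hW
  obtain ⟨g, hg⟩ := (yon S).map_surjective (c ≫ pullback.snd f a)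
  haveI : LocallyOfFinitePresentation g.left := lfp_chart hX hY etLocal_lfp hf sq hc g hg.symm
  haveI : QuasiCompact g.left := (HasAffineProperty.iff_of_isAffine (P := @QuasiCompact)).mpr inferInstance
  have := Groth.L07.GeomRk.isLocallyConstructible_geometricallyReduced g.left
  refine IsLocallyConstructible.isConstructible ((congrArg IsLocallyConstructible (Set.ext fun v => ?_)).mp this)
  exact (mem_locus_iff hX hY a sq hc hcs g hg.symm v).symm

theorem isOpen_locus (hX : IsAlgSpace X) (hY : IsAlgSpace Y) {f : X ⟶ Y} (hfl : LocP @Flat f)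
    (hf : LocP @LocallyOfFinitePresentation f) (hcl : IsUnivClosedMor f) : IsOpen (Locus f) := by
  obtain ⟨V, b, hb, hbs⟩ := hY.atlas
  rw [← (isOpenQuotientMap_ofPt hb hbs).isQuotientMap.isOpen_preimage]
  have sq := IsPullback.of_hasPullback f b
  have hP : IsAlgSpace (pullback f b) := isAlgSpace_of_isPullback hY.diag hX (IsAlgSpace.yon_obj V) sq
  obtain ⟨W, c, hc, hcs⟩ := hP.atlas
  obtain ⟨g, hg⟩ := (yon S).map_surjective (c ≫ pullback.snd f b)
  haveI : LocallyOfFinitePresentation g.left := lfp_chart hX hY etLocal_lfp hf sq hc g hg.symm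
  haveI : Flat g.left := lfp_chart hX hY etLocal_flat hfl sq hc g hg.symm
  let G : Set W.left := {w | GPt g.left w}
  have hG : IsOpen G := by
    refine (congrArg IsOpen (Set.ext fun w => ?_)).mp (Groth.L07.FlatGeomReduced.isOpen_flat_geomReduced g.left)
    exact (and_iff_right (Flat.stalkMap g.left w)).trans (gPt_iff g.left w).symm
  -- the bad points of the space form a closed set
  let B : Set (Points (pullback f b)) := Points.ofPt c '' Gᶜ
  have hsat : Points.ofPt c ⁻¹' B = Gᶜ := by
    refine Set.Subset.antisymm ?_ (Set.subset_preimage_image _ _)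
    rintro w ⟨w', hw', e⟩
    obtain ⟨R, p, q, sqR⟩ := exists_isPullback_of_representable hc.1 c
    obtain ⟨r, rfl, rfl⟩ := (ofPt_eq_ofPt_iff sqR w' w).1 e
    haveI : Etale q.left := repWith_prop hc sqR
    haveI : Etale p.left := repWith_prop hc sqR.flip
    have hpq : p.left ≫ g.left = q.left ≫ g.left := by
      have h2 : (yon S).map (p ≫ g) = (yon S).map (q ≫ g) := by
        rw [Functor.map_comp, Functor.map_comp, hg, reassoc_of% sqR.w]
      exact congrArg (fun φ => Over.Hom.left φ) ((yon S).map_injective h2)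
    intro hgood
    apply hw'
    show GPt g.left (p.left r)
    rw [← gPt_comp_iff, hpq, gPt_comp_iff]
    exact hgood
  have hB : IsClosed B := by
    rw [← (isOpenQuotientMap_ofPt hc hcs).isQuotientMap.isClosed_preimage, hsat]
    exact hG.isClosed_compl
  have hcm : IsClosedMap (Points.map (pullback.snd f b)) := hcl (IsAlgSpace.yon_obj V) b _ _ sq
  have hkey : Points.ofPt b ⁻¹' Locus f =
      (Points.ofScheme V ⁻¹' (Points.map (pullback.snd f b) '' B))ᶜ := by
    ext v
    refine (mem_locus_iff hX hY b sq hc hcs g hg.symm v).trans ?_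
    rw [geometricallyReduced_fibre_iff]
    have hmap : ∀ w, Points.map (pullback.snd f b) (Points.ofPt c w) = Points.ofScheme V (g.left w) := fun w => by
      rw [Points.map_ofPt, ← hg, ofPt_map]
    constructor
    · rintro H ⟨_, ⟨w, hw, rfl⟩, e⟩
      rw [hmap] at e
      exact hw (H w ((Points.schemeEquiv V).injective e))
    · intro H w hw
      by_contra hn
      exact H ⟨_, ⟨w, hn, rfl⟩, by rw [hmap, hw]⟩
  rw [hkey]
  exact ((hcm _ hB).preimage (Points.schemeHomeo V).continuous).isOpen_compl

end L02.SpRed
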