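import Groth.Agent.L02.SpRed.Space
import Groth.Agent.L23.Decent3
import Groth.Agent.L02.CMMor.Groupoid
import Groth.Agent.L19.MonoValuative
import Groth.Agent.L23.ElemNbhd
import Groth.Agent.L23.LocalDimEtale

/-!
Locally Noetherian fibres of a morphism of algebraic spaces.
-/

set_option autoImplicit false
set_option linter.style.haveILetI false
set_option backward.isDefEq.respectTransparency.types false
set_option backward.isDefEq.respectTransparency false
universe u

open CategoryTheory CategoryTheory.Limits AlgebraicGeometry Topology AlgSp Groth.L23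

namespace L02.SpRed

variable {S : Scheme.{u}} {X Y : Sp S}

/-- The base change along a test morphism is locally Noetherian. -/
def NoethAt (f : X ⟶ Y) {T : Over S} (y : (yon S).obj T ⟶ Y) : Prop :=
  ∀ (Q : Sp S) (fst : Q ⟶ X) (snd : Q ⟶ (yon S).obj T), IsPullback fst snd f y → IsLocNoethSp Q

theorem noethAt_iff {f : X ⟶ Y} {T : Over S} {y : (yon S).obj T ⟶ Y} {Q : Sp S} {fst : Q ⟶ X}
    {snd : Q ⟶ (yon S).obj T} (sq : IsPullback fst snd f y) : NoethAt f y ↔ IsLocNoethSp Q :=
  ⟨fun H => H Q fst snd sq, fun h _ _ _ sq' => etaleLocally_of_iso (sq.isoIsPullback _ _ sq') h⟩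

/-- A chart of the base change along a composite. -/
theorem exists_bc_chart (hX : IsAlgSpace X) (hY : IsAlgSpace Y) {f : X ⟶ Y} {T T' : Over S}
    (y : (yon S).obj T ⟶ Y) (m : T' ⟶ T) :
    ∃ (A A' : Over S) (g : A ⟶ T) (g' : A' ⟶ T') (μ : A' ⟶ A),
      IsPullback μ.left g'.left g.left m.left ∧
      (NoethAt f y ↔ IsLocallyNoetherian A.left) ∧
      (NoethAt f ((yon S).map m ≫ y) ↔ IsLocallyNoetherian A'.left) := by
  have sq := IsPullback.of_hasPullback f y
  have hP : IsAlgSpace (pullback f y) := isAlgSpace_of_isPullback hY.diag hX (IsAlgSpace.yon_obj _) sq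
  obtain ⟨A, a, ha, has⟩ := hP.atlas
  obtain ⟨g, hg⟩ := (yon S).map_surjective (a ≫ pullback.snd f y)
  have sq2 := IsPullback.of_hasPullback (pullback.snd f y) ((yon S).map m)
  have hQ : IsAlgSpace (pullback (pullback.snd f y) ((yon S).map m)) :=
    isAlgSpace_of_isPullback hY.diag hX (IsAlgSpace.yon_obj _) (sq2.paste_horiz sq)
  have sqA : IsPullback (pullback.fst g m) (pullback.snd g m) g m := IsPullback.of_hasPullback g m
  have sqA' : IsPullback ((yon S).map (pullback.fst g m)) ((yon S).map (pullback.snd g m)) (a ≫ pullback.snd f y) ((yon S).map m) := by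
    rw [← hg]; exact sqA.map (yon S)
  let a' := sq2.lift ((yon S).map (pullback.fst g m) ≫ a) ((yon S).map (pullback.snd g m))
    (by rw [Category.assoc]; exact sqA'.w)
  have sqa : IsPullback ((yon S).map (pullback.fst g m)) a' a (pullback.fst (pullback.snd f y) ((yon S).map m)) := by
    refine IsPullback.of_bot ?_ (sq2.lift_fst _ _ _).symm sq2
    rw [show a' ≫ pullback.snd (pullback.snd f y) ((yon S).map m) = _ from sq2.lift_snd _ _ _]
    exact sqA'
  have ha' : RepWith @Etale a' := repWith_of_isPullback sqa ha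
  have ha's : RepWith @Surjective a' := repWith_of_isPullback sqa has
  exact ⟨A, pullback g m, g, pullback.snd g m, pullback.fst g m, sqA.map (Over.forget S),
    (noethAt_iff sq).trans ⟨fun h => Pt.isLocallyNoetherian_of_chart hP h ha, fun h => ⟨A, a, ha, has, h⟩⟩,
    (noethAt_iff (sq2.paste_horiz sq)).trans
      ⟨fun h => Pt.isLocallyNoetherian_of_chart hQ h ha', fun h => ⟨_, a', ha', ha's, h⟩⟩⟩

theorem noethAt_of_lft (hX : IsAlgSpace X) (hY : IsAlgSpace Y) {f : X ⟶ Y} {T T' : Over S}
    (y : (yon S).obj T ⟶ Y) (m : T' ⟶ T) [LocallyOfFiniteType m.left] (h : NoethAt f y) :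
    NoethAt f ((yon S).map m ≫ y) := by
  obtain ⟨A, A', g, g', μ, sq, e, e'⟩ := exists_bc_chart hX hY (f := f) y m
  haveI := e.1 h
  haveI : LocallyOfFiniteType μ.left := MorphismProperty.of_isPullback sq.flip ‹LocallyOfFiniteType m.left›
  exact e'.2 (LocallyOfFiniteType.isLocallyNoetherian μ.left)

theorem noethAt_descend (hX : IsAlgSpace X) (hY : IsAlgSpace Y) {f : X ⟶ Y} {K L : Type u} [Field K] [Field L]
    {v : Spec (CommRingCat.of K) ⟶ S} {w : Spec (CommRingCat.of L) ⟶ S} (m : Over.mk w ⟶ Over.mk v)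
    (y : (yon S).obj (Over.mk v) ⟶ Y) (h : NoethAt f ((yon S).map m ≫ y)) : NoethAt f y := by
  obtain ⟨A, A', g, g', μ, sq, e, e'⟩ := exists_bc_chart hX hY (f := f) y m
  haveI := e'.1 h
  obtain ⟨φ, hφ⟩ := Spec.map_surjective m.left
  letI : Algebra K L := φ.hom.toAlgebra
  refine e.2 (_root_.L02.CMMor.isLocallyNoetherian_of_baseChange (k := K) (k' := L) g.left (p := μ.left) (q := g'.left) ?_)
  rw [show Spec.map (CommRingCat.ofHom (algebraMap K L)) = m.left from hφ]
  exact sq

/-- A point of `T ×_Y k` over a given point. -/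
theorem exists_point_over (hY : IsAlgSpace Y) {T : Over S} (b : (yon S).obj T ⟶ Y) (v : T.left) (p : FieldPt Y)
    (h : Points.ofPt b v = Points.mk p) :
    ∃ (R : Over S) (q : R ⟶ T) (s : R ⟶ p.pt) (r : R.left),
      IsPullback ((yon S).map q) ((yon S).map s) b p.toHom ∧ q.left r = v := by
  obtain ⟨R, q, s, sq⟩ := exists_isPullback_of_representable (hY.representable_from_yon b) p.toHom
  obtain ⟨r, hr, -⟩ := (ofPt_eq_ofPt_iff sq v (IsLocalRing.closedPoint p.K)).1 (h.trans (Points.ofPt_toHom p _).symm)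
  exact ⟨R, q, s, r, sq, hr⟩

theorem noethAt_etale_point (hX : IsAlgSpace X) (hY : IsAlgSpace Y) {f : X ⟶ Y} {V : Over S}
    {b : (yon S).obj V ⟶ Y} (hb : RepWith @Etale b) (v : V.left) (p : FieldPt Y)
    (hv : Points.ofPt b v = Points.mk p) (hp : NoethAt f p.toHom) : NoethAt f (FieldPt.ofPt b v).toHom := by
  obtain ⟨R, q, s, r, sq, rfl⟩ := exists_point_over hY b v p hv
  haveI : Etale s.left := repWith_prop hb sq
  haveI := lqf_of_etale s.left
  haveI : DiscreteTopology R.left := by
    have h1 := s.left.isDiscrete_preimage_singleton (s.left r)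
    rw [show s.left ⁻¹' {s.left r} = Set.univ from Set.eq_univ_of_forall fun x =>
      Subsingleton.elim (α := PrimeSpectrum p.K) (s.left x) (s.left r)] at h1
    exact isDiscrete_univ_iff.1 h1
  haveI : IsClosedImmersion (R.left.fromSpecResidueField r) := (isClosed_singleton_iff_isClosedImmersion).1 (isClosed_discrete _)
  let j : Over.mk (R.left.fromSpecResidueField r ≫ R.hom) ⟶ R := Over.homMk (R.left.fromSpecResidueField r) rfl
  haveI : LocallyOfFiniteType (j ≫ s).left :=
    inferInstanceAs (LocallyOfFiniteType (R.left.fromSpecResidueField r ≫ s.left))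
  have h1 := noethAt_of_lft hX hY p.toHom (j ≫ s) hp
  obtain ⟨c, -, hc⟩ := Groth.L23.Elem.exists_pointMap q r
  refine noethAt_descend hX hY c _ ?_
  rw [FieldPt.toHom_ofPt, ← Category.assoc, ← Functor.map_comp]
  rw [show c ≫ _ = j ≫ q from hc]
  rwa [Functor.map_comp, Category.assoc, ← sq.w, ← Category.assoc, ← Functor.map_comp] at h1

theorem noethAt_mono_point (hX : IsAlgSpace X) (hY : IsAlgSpace Y) {f : X ⟶ Y} (p p₀ : FieldPt Y)
    (h : Points.mk p = Points.mk p₀) (hm : Mono p₀.toHom) (hp : NoethAt f p.toHom) : NoethAt f p₀.toHom := by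
  obtain ⟨R, q, s, r, sq, -⟩ := exists_point_over hY p₀.toHom (IsLocalRing.closedPoint p₀.K) p
    ((Points.ofPt_toHom p₀ _).trans h.symm)
  haveI : Mono ((yon S).map s) := sq.mono_snd_of_mono
  haveI : Mono s := (yon S).mono_of_mono_map this
  haveI : Mono s.left := inferInstanceAs (Mono ((Over.forget S).map s))
  haveI : IsIso ((Over.forget S).map s) := Groth.L19.isIso_of_mono_to_field (K := p.K) s.left r
  haveI : IsIso s := isIso_of_reflects_iso s (Over.forget S)
  refine noethAt_descend hX hY (K := p₀.K) (L := p.K) (inv s ≫ q) _ ?_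
  rw [show (yon S).map (inv s ≫ q) ≫ p₀.toHom = p.toHom by
    rw [Functor.map_comp, Category.assoc, sq.w, ← Category.assoc, ← Functor.map_comp, IsIso.inv_hom_id,
      CategoryTheory.Functor.map_id, Category.id_comp]]
  exact hp

end L02.SpRed
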