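import Groth.Agent.L02.SpRed.Space
import Groth.Agent.L07.GeomRedPerfect
import Groth.Agent.L23.ElemNbhd
import Mathlib.CategoryTheory.Limits.Constructions.Over.Products

/-!
Geometric reducedness at a point of an algebraic space over a field.
-/

set_option autoImplicit false
set_option linter.style.haveILetI false
set_option backward.isDefEq.respectTransparency.types false
set_option backward.isDefEq.respectTransparency false
universe u

open CategoryTheory CategoryTheory.Limits AlgebraicGeometry Topology AlgSp Groth.L23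

namespace L02.SpRed

variable {k : Type u} [Field k]

theorem gPt_field_iff {U : Scheme.{u}} (f : U ⟶ Spec (CommRingCat.of k)) (u : U) :
    GPt f u ↔ FBase.IsGeomReducedAt f u := by
  constructor
  · intro H K _ _ z hz
    exact H K _ z hz
  · intro H K _ σ z hz
    obtain ⟨φ, rfl⟩ := Spec.map_surjective σ
    exact @H K _ φ.hom.toAlgebra z hz

/-- Geometric reducedness over a field is étale local. -/
theorem isGeomReducedAt_etale {U V : Scheme.{u}} (p : U ⟶ V) [Etale p] (f : V ⟶ Spec (CommRingCat.of k))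
    {g : U ⟶ Spec (CommRingCat.of k)} (hg : p ≫ f = g) (u : U) :
    FBase.IsGeomReducedAt g u ↔ FBase.IsGeomReducedAt f (p u) := by
  subst hg
  rw [← gPt_field_iff, ← gPt_field_iff, gPt_comp_iff]

variable {X : Sp (Spec (CommRingCat.of k))}

/-- Some étale chart is geometrically reduced over the point. -/
def GRAt (X : Sp (Spec (CommRingCat.of k))) (x : Points X) : Prop :=
  ∃ (U : Over (Spec (CommRingCat.of k))) (a : (yon (Spec (CommRingCat.of k))).obj U ⟶ X) (u : ↥U.left),
    RepWith @Etale a ∧ Points.ofPt a u = x ∧ FBase.IsGeomReducedAt U.hom u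

theorem isGeomReducedAt_iff_of_eq {U V : Over (Spec (CommRingCat.of k))}
    {a : (yon _).obj U ⟶ X} {b : (yon _).obj V ⟶ X} (ha : RepWith @Etale a) (hb : RepWith @Etale b)
    {u : U.left} {v : V.left} (h : Points.ofPt a u = Points.ofPt b v) :
    FBase.IsGeomReducedAt U.hom u ↔ FBase.IsGeomReducedAt V.hom v := by
  obtain ⟨R, p, q, sq⟩ := exists_isPullback_of_representable ha.1 b
  haveI : Etale p.left := repWith_prop hb sq.flip
  haveI : Etale q.left := repWith_prop ha sq
  obtain ⟨r, rfl, rfl⟩ := (ofPt_eq_ofPt_iff sq u v).1 h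
  rw [← isGeomReducedAt_etale p.left U.hom (Over.w p) r, ← isGeomReducedAt_etale q.left V.hom (Over.w q) r]

theorem gRAt_iff {U : Over (Spec (CommRingCat.of k))} {a : (yon _).obj U ⟶ X} (ha : RepWith @Etale a)
    (u : U.left) : GRAt X (Points.ofPt a u) ↔ FBase.IsGeomReducedAt U.hom u :=
  ⟨fun ⟨_, _, _, hb, e, h⟩ => (isGeomReducedAt_iff_of_eq hb ha e).1 h, fun h => ⟨U, a, u, ha, rfl, h⟩⟩

theorem exists_chart (hX : IsAlgSpace X) (x : Points X) :
    ∃ (U : Over (Spec (CommRingCat.of k))) (a : (yon _).obj U ⟶ X) (u : ↥U.left),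
      RepWith @Etale a ∧ Points.ofPt a u = x := by
  obtain ⟨U, a, ha, has⟩ := hX.atlas
  obtain ⟨u, hu⟩ := surjective_ofPt has x
  exact ⟨U, a, u, ha, hu⟩

theorem gRAt_map_iff (hX : IsAlgSpace X) {Y : Sp (Spec (CommRingCat.of k))} {f : X ⟶ Y} (he : IsEtaleMor f)
    (x : Points X) : GRAt X x ↔ GRAt Y (Points.map f x) := by
  obtain ⟨U, a, u, ha, rfl⟩ := exists_chart hX x
  rw [gRAt_iff ha, Points.map_ofPt, gRAt_iff (he a ha)]

theorem gRAt_hasAtMor {Y : Sp (Spec (CommRingCat.of k))} {f : X ⟶ Y} {x : Points X}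
    (he : HasAtMor (fun U _ h u => ∃ W : U.Opens, u ∈ W ∧ Etale (W.ι ≫ h)) f x) :
    GRAt X x ↔ GRAt Y (Points.map f x) := by
  obtain ⟨U, V, a, b, h, u, ha, hb, sq, rfl, W, hu, hW⟩ := he
  haveI := hW
  rw [gRAt_iff ha, Points.map_ofPt, sq, ofPt_comp, gRAt_iff hb]
  have h₁ := isGeomReducedAt_etale W.ι U.hom (g := W.ι ≫ U.hom) rfl ⟨u, hu⟩
  have h₂ := isGeomReducedAt_etale (W.ι ≫ h.left) V.hom (g := W.ι ≫ U.hom) (by rw [Category.assoc, Over.w h]) ⟨u, hu⟩
  exact h₁.symm.trans h₂

/-! Base change of the field. -/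

variable (K : Type u) [Field K] [Algebra k K]

/-- The spectrum of the extension. -/
noncomputable abbrev Kobj : Over (Spec (CommRingCat.of k)) :=
  Over.mk (Spec.map (CommRingCat.ofHom (algebraMap k K)))

/-- The chart of the base change. -/
noncomputable def bcChart {U : Over (Spec (CommRingCat.of k))} (a : (yon _).obj U ⟶ X) :
    (yon _).obj (U ⨯ Kobj K) ⟶ X ⨯ (yon _).obj (Kobj K) :=
  prodComparison (yon _) U (Kobj K) ≫ prod.map a (𝟙 _)

variable {U : Over (Spec (CommRingCat.of k))} (a : (yon (Spec (CommRingCat.of k))).obj U ⟶ X)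

theorem bcChart_fst : bcChart K a ≫ prod.fst = (yon _).map prod.fst ≫ a := by
  simp [bcChart]

theorem bcChart_snd : bcChart K a ≫ prod.snd = (yon _).map prod.snd := by
  simp [bcChart]

theorem isPullback_bcChart :
    IsPullback ((yon _).map (prod.fst : U ⨯ Kobj K ⟶ U)) (bcChart K a) a prod.fst :=
  (isPullback_prod_map_left a ((yon _).obj (Kobj K))).of_iso
    (PreservesLimitPair.iso (yon _) U (Kobj K)).symm (Iso.refl _) (Iso.refl _) (Iso.refl _)
    (by simp)
    (by simp [bcChart, ← PreservesLimitPair.iso_hom]) (by simp) (by simp)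

theorem repWith_bcChart {P : MorphismProperty Scheme.{u}} [P.IsStableUnderBaseChange] (ha : RepWith P a) :
    RepWith P (bcChart K a) :=
  repWith_of_isPullback (isPullback_bcChart K a) ha

theorem isPullback_left :
    IsPullback (prod.fst : U ⨯ Kobj K ⟶ U).left (prod.snd : U ⨯ Kobj K ⟶ Kobj K).left U.hom
      (Spec.map (CommRingCat.ofHom (algebraMap k K))) :=
  Over.isPullback_of_binaryFan_isLimit (BinaryFan.mk prod.fst prod.snd) (prodIsProd U (Kobj K))

theorem isAlgSpace_bc (hX : IsAlgSpace X) : IsAlgSpace (X ⨯ (yon _).obj (Kobj K)) := by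
  have hT : IsTerminal ((yon _).obj (Over.mk (𝟙 (Spec (CommRingCat.of k))))) :=
    IsTerminal.isTerminalObj (yon _) _ Over.mkIdTerminal
  exact isAlgSpace_of_isPullback (IsAlgSpace.yon_obj _).diag hX (IsAlgSpace.yon_obj _)
    (IsPullback.of_isLimit_binaryFan_of_isTerminal (prodIsProd X ((yon _).obj (Kobj K))) hT)

variable {a}

theorem bc_iff (ha : RepWith @Etale a) {U' : Over (Spec (CommRingCat.of k))}
    {a' : (yon _).obj U' ⟶ X ⨯ (yon _).obj (Kobj K)} (ha' : RepWith @Etale a') {q : U' ⟶ Kobj K}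
    (hq : a' ≫ prod.snd = (yon _).map q) {u : U.left} {u' : U'.left}
    (h : Points.map prod.fst (Points.ofPt a' u') = Points.ofPt a u) :
    FBase.IsGeomReducedAt q.left u' ↔ FBase.IsGeomReducedAt U.hom u := by
  obtain ⟨w, hw₁, hw₂⟩ := exists_point_of_isPullback (isPullback_bcChart K a).flip h
  obtain ⟨R, p, s, sq⟩ := exists_isPullback_of_representable ha'.1 (bcChart K a)
  haveI : Etale p.left := repWith_prop (repWith_bcChart K a ha) sq.flip
  haveI : Etale s.left := repWith_prop ha' sq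
  obtain ⟨r, rfl, hr⟩ := (ofPt_eq_ofPt_iff sq u' w).1 hw₁.symm
  have hps : p ≫ q = s ≫ (prod.snd : U ⨯ Kobj K ⟶ Kobj K) := by
    apply (yon _).map_injective
    rw [Functor.map_comp, Functor.map_comp, ← hq, ← bcChart_snd K a, reassoc_of% sq.w]
  have hps' : p.left ≫ q.left = s.left ≫ (prod.snd : U ⨯ Kobj K ⟶ Kobj K).left :=
    congrArg (fun φ => Over.Hom.left φ) hps
  rw [← isGeomReducedAt_etale p.left q.left rfl r, isGeomReducedAt_etale s.left _ hps'.symm r, hr, ← hw₂]
  exact ⟨Groth.L07.SectionComp.geomRed_descend U.hom _ _ (isPullback_left K) w,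
    Groth.L07.SectionComp.geomRed_ascend U.hom _ _ (isPullback_left K) w⟩

theorem gRAt_bc_iff (hX : IsAlgSpace X) (x : Points X) (x' : Points (X ⨯ (yon _).obj (Kobj K)))
    (hx : Points.map prod.fst x' = x) :
    GRAt X x ↔ ∃ (U' : Over (Spec (CommRingCat.of k))) (a' : (yon _).obj U' ⟶ X ⨯ (yon _).obj (Kobj K))
      (q : U' ⟶ Kobj K) (u' : ↥U'.left), RepWith @Etale a' ∧ a' ≫ prod.snd = (yon _).map q ∧
        Points.ofPt a' u' = x' ∧ FBase.IsGeomReducedAt q.left u' := by
  constructor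
  · rintro ⟨U, a, u, ha, hu, h⟩
    obtain ⟨U', a', u', ha', hu'⟩ := exists_chart (isAlgSpace_bc K hX) x'
    obtain ⟨q, hq⟩ := (yon _).map_surjective (a' ≫ prod.snd)
    exact ⟨U', a', q, u', ha', hq.symm, hu', (bc_iff K ha ha' hq.symm (by rw [hu', hx, hu])).2 h⟩
  · rintro ⟨U', a', q, u', ha', hq, hu', h⟩
    obtain ⟨U, a, u, ha, hu⟩ := exists_chart hX x
    exact ⟨U, a, u, ha, hu, (bc_iff K ha ha' hq (by rw [hu', hx, hu])).1 h⟩

theorem surjective_bc_fst (hX : IsAlgSpace X) :
    Function.Surjective (Points.map (prod.fst : X ⨯ (yon _).obj (Kobj K) ⟶ X)) := by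
  intro x
  obtain ⟨U, a, u, -, rfl⟩ := exists_chart hX x
  haveI : Surjective (Spec.map (CommRingCat.ofHom (algebraMap k K))) :=
    (surjective_flat_of_field _).1
  haveI : Surjective (prod.fst : U ⨯ Kobj K ⟶ U).left := MorphismProperty.of_isPullback (isPullback_left K).flip ‹_›
  obtain ⟨w, rfl⟩ := (prod.fst : U ⨯ Kobj K ⟶ U).left.surjective u
  exact ⟨Points.ofPt (bcChart K a) w, by rw [Points.map_ofPt, bcChart_fst, ofPt_comp]⟩

theorem forall_gRAt_iff_reduced (hX : IsAlgSpace X) :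
    (∀ x, GRAt X x) ↔ ∀ (K : Type u) [Field K] [Algebra k K],
      EtaleLocally (fun U => IsReduced U) (X ⨯ (yon _).obj (Kobj (k := k) K)) := by
  obtain ⟨U, a, ha, has⟩ := hX.atlas
  have key : ∀ (K : Type u) [Field K] [Algebra k K],
      EtaleLocally (fun U => IsReduced U) (X ⨯ (yon _).obj (Kobj (k := k) K)) ↔ IsReduced (FBase.bc U.hom K) := by
    intro K _ _
    rw [etaleLocally_reduced_iff (isAlgSpace_bc K hX) (repWith_bcChart K a ha) (repWith_bcChart K a has)]
    let e := (isPullback_left (U := U) K).isoPullback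
    exact ⟨fun h => @isReduced_of_isOpenImmersion _ _ e.inv _ h, fun h => @isReduced_of_isOpenImmersion _ _ e.hom _ h⟩
  constructor
  · intro H K _ _
    rw [key]
    haveI : ∀ z : ↥(FBase.bc U.hom K), _root_.IsReduced ((FBase.bc U.hom K).presheaf.stalk z) :=
      fun z => (gRAt_iff ha _).1 (H _) K z rfl
    exact isReduced_of_isReduced_stalk _
  · intro H x
    obtain ⟨u, rfl⟩ := surjective_ofPt has x
    refine (gRAt_iff ha u).2 fun K _ _ z _ => ?_
    haveI := (key K).1 (H K)
    infer_instance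

theorem gRAt_of_perfect [PerfectField k] (hred : EtaleLocally (fun U => IsReduced U) X) (x : Points X) :
    GRAt X x := by
  obtain ⟨U, a, ha, has, hU⟩ := hred
  obtain ⟨u, rfl⟩ := surjective_ofPt has x
  haveI : IsReduced U.left := hU
  exact (gRAt_iff ha u).2 (Groth.L07.GeomRedPerfect.isGeomReducedAt_of_perfect U.hom u inferInstance)

end L02.SpRed
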