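import Groth.Agent.L02.SpRed.OverField
import Groth.Agent.L03.GeomReduced2

/-!
Tests for geometric reducedness of an algebraic space over a field.
-/

set_option autoImplicit false
set_option linter.style.haveILetI false
set_option backward.isDefEq.respectTransparency.types false
set_option backward.isDefEq.respectTransparency false
universe u

open CategoryTheory CategoryTheory.Limits AlgebraicGeometry Topology AlgSp Groth.L23 TensorProduct

namespace L02.SpRed

variable {k : Type u} [Field k]

theorem isReduced_bc_chart {X : Sp (Spec (CommRingCat.of k))} (hX : IsAlgSpace X)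
    {U : Over (Spec (CommRingCat.of k))} {a : (yon _).obj U ⟶ X} (ha : RepWith @Etale a)
    (has : RepWith @Surjective a) (K : Type u) [Field K] [Algebra k K]
    (h : EtaleLocally (fun U => IsReduced U) (X ⨯ (yon _).obj (Kobj (k := k) K))) :
    IsReduced (FBase.bc U.hom K) := by
  let e := (isPullback_left (U := U) K).isoPullback
  exact @isReduced_of_isOpenImmersion _ _ e.inv _
    ((etaleLocally_reduced_iff (isAlgSpace_bc K hX) (repWith_bcChart K a ha) (repWith_bcChart K a has)).1 h)

theorem forall_reduced_of_perfect {X : Sp (Spec (CommRingCat.of k))} (hX : IsAlgSpace X) (Ω : Type u) [Field Ω]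
    [Algebra k Ω] [PerfectField Ω] (h : EtaleLocally (fun U => IsReduced U) (X ⨯ (yon _).obj (Kobj (k := k) Ω)))
    (K : Type u) [Field K] [Algebra k K] :
    EtaleLocally (fun U => IsReduced U) (X ⨯ (yon _).obj (Kobj (k := k) K)) := by
  refine (forall_gRAt_iff_reduced hX).1 (fun x => ?_) K
  obtain ⟨U, a, ha, has⟩ := hX.atlas
  obtain ⟨u, rfl⟩ := surjective_ofPt has x
  haveI := isReduced_bc_chart hX ha has Ω h
  exact (gRAt_iff ha u).2 ((Groth.L07.GeomRk.geometricallyReduced_iff _).1
    (Groth.L07.GeomRedPerfect.geometricallyReduced_of_bc_perfect U.hom (Ω := Ω)) u)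

theorem isReduced_bc_spec_iff {C : Type u} [CommRing C] [Algebra k C] (K : Type u) [Field K] [Algebra k K] :
    IsReduced (FBase.bc (Spec.map (CommRingCat.ofHom (algebraMap k C))) K) ↔ _root_.IsReduced (K ⊗[k] C) := by
  let e := pullbackSpecIso k C K
  let c := Algebra.TensorProduct.comm k C K
  constructor
  · intro h
    haveI : IsReduced (Spec (CommRingCat.of (C ⊗[k] K))) := @isReduced_of_isOpenImmersion _ _ e.inv _ h
    haveI : _root_.IsReduced (C ⊗[k] K) := (affine_isReduced_iff (CommRingCat.of (C ⊗[k] K))).mp inferInstance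
    exact isReduced_of_injective c.symm.toAlgHom c.symm.injective
  · intro h
    haveI : _root_.IsReduced (CommRingCat.of (C ⊗[k] K)) := isReduced_of_injective c.toAlgHom c.injective
    exact @isReduced_of_isOpenImmersion _ _ e.hom _ inferInstance

theorem isGeomReducedAt_of_finite_pi {U : Scheme.{u}} (f : U ⟶ Spec (CommRingCat.of k))
    (h : ∀ (k' : Type u) [Field k'] [Algebra k k'], Module.Finite k k' → IsPurelyInseparable k k' →
      IsReduced (FBase.bc f k')) (x : U) : FBase.IsGeomReducedAt f x := by
  obtain ⟨V, hV, hxV, -⟩ := exists_isAffineOpen_mem_and_subset (X := U) (x := x) (U := ⊤) trivial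
  obtain ⟨φ, hφ⟩ := Spec.map_surjective (hV.fromSpec ≫ f)
  letI : Algebra k Γ(U, V) := φ.hom.toAlgebra
  obtain ⟨w, rfl⟩ : x ∈ Set.range hV.fromSpec := by rw [hV.range_fromSpec]; exact hxV
  refine (isGeomReducedAt_etale hV.fromSpec f (g := Spec.map (CommRingCat.ofHom (algebraMap k Γ(U, V)))) hφ.symm w).1 ?_
  have hC : Algebra.IsGeometricallyReduced k Γ(U, V) := by
    refine Groth.L03.GeomReduced2.isGeometricallyReduced_of_purelyInseparable k _ fun k' _ _ _ _ => ?_
    rw [← isReduced_bc_spec_iff]
    haveI := h k' inferInstance inferInstance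
    exact @isReduced_of_isOpenImmersion _ _
      (pullback.map (Spec.map (CommRingCat.ofHom (algebraMap k Γ(U, V)))) (Spec.map (CommRingCat.ofHom (algebraMap k k')))
        f (Spec.map (CommRingCat.ofHom (algebraMap k k'))) hV.fromSpec (𝟙 _) (𝟙 _)
        (by rw [Category.comp_id]; exact hφ) (by simp)) inferInstance ‹_›
  intro K _ _ z _
  haveI := hC
  haveI : IsReduced (FBase.bc (Spec.map (CommRingCat.ofHom (algebraMap k Γ(U, V)))) K) :=
    (isReduced_bc_spec_iff K).2 (Groth.L03.GeomReduced2.isReduced_of_isGeometricallyReduced K)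
  infer_instance

end L02.SpRed
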