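import Groth.Agent.L02.SpRed.Stalk
import Groth.Agent.L23.SpaceFibre
import Groth.Agent.L23.Compact
import Groth.Agent.L07.GeomReducedScheme

/-!
Algebraic spaces with geometrically reduced fibres.
-/

set_option autoImplicit false
set_option linter.style.haveILetI false
set_option backward.isDefEq.respectTransparency.types false
set_option backward.isDefEq.respectTransparency false
universe u

open CategoryTheory CategoryTheory.Limits AlgebraicGeometry Topology AlgSp Groth.L23

namespace L02.SpRed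

variable {S : Scheme.{u}}

/-- One chart decides reducedness. -/
theorem etaleLocally_reduced_iff {P : Sp S} (hP : IsAlgSpace P) {A : Over S} {a : (yon S).obj A ⟶ P}
    (ha : RepWith @Etale a) (has : RepWith @Surjective a) :
    EtaleLocally (fun U => IsReduced U) P ↔ IsReduced A.left := by
  refine ⟨?_, fun h => ⟨A, a, ha, has, h⟩⟩
  rintro ⟨B, b, hb, hbs, hB⟩
  obtain ⟨R, p, q, sq⟩ := exists_isPullback_of_representable (hP.representable_from_yon a) b
  haveI : Etale q.left := repWith_prop ha sq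
  haveI : Etale p.left := repWith_prop hb sq.flip
  haveI : Surjective p.left := repWith_prop hbs sq.flip
  haveI : IsReduced B.left := hB
  haveI : IsReduced R.left := isReduced_of_etale q.left
  exact Groth.L20.isReduced_of_surjective_of_flat p.left

theorem etaleLocally_of_iso {P Q : Sp S} (e : P ≅ Q) {C : Scheme.{u} → Prop} (h : EtaleLocally C P) :
    EtaleLocally C Q := by
  obtain ⟨U, p, hp, hps, hU⟩ := h
  exact ⟨U, p ≫ e.hom, repWith_comp hp (repWith_of_isIso (P := (@Etale : MorphismProperty Scheme.{u})) e.hom),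
    repWith_comp hps (repWith_of_isIso (P := (@Surjective : MorphismProperty Scheme.{u})) e.hom), hU⟩

variable {X Y : Sp S}

/-- The base change along a test morphism is reduced. -/
def RedAt (f : X ⟶ Y) {T : Over S} (y : (yon S).obj T ⟶ Y) : Prop :=
  ∀ (Q : Sp S) (fst : Q ⟶ X) (snd : Q ⟶ (yon S).obj T), IsPullback fst snd f y →
    EtaleLocally (fun U => IsReduced U) Q

theorem redAt_iff {f : X ⟶ Y} {T : Over S} {y : (yon S).obj T ⟶ Y} {Q : Sp S} {fst : Q ⟶ X}
    {snd : Q ⟶ (yon S).obj T} (sq : IsPullback fst snd f y) :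
    RedAt f y ↔ EtaleLocally (fun U => IsReduced U) Q :=
  ⟨fun H => H Q fst snd sq, fun h _ _ _ sq' => etaleLocally_of_iso (sq.isoIsPullback _ _ sq') h⟩

/-- Geometric reducedness of the fibre at a field-valued point. -/
def GoodPt (f : X ⟶ Y) (k : FieldPt Y) : Prop :=
  ∀ (L : Type u) [Field L] (w : Spec (CommRingCat.of L) ⟶ S) (m : Over.mk w ⟶ k.pt),
    RedAt f ((yon S).map m ≫ k.toHom)

theorem template_iff (f : X ⟶ Y) (k : FieldPt Y) :
    (∀ (k' : Type u) [Field k'] (φ : k.K →+* k') (Xk' : Sp S) (a : Xk' ⟶ X)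
        (b : Xk' ⟶ (yon S).obj (Over.mk (Spec.map (CommRingCat.ofHom φ) ≫ k.str))),
        IsPullback a b f ((yon S).map (Over.homMk (Spec.map (CommRingCat.ofHom φ)) rfl :
          Over.mk (Spec.map (CommRingCat.ofHom φ) ≫ k.str) ⟶ k.pt) ≫ k.toHom) →
          EtaleLocally (fun U => IsReduced U) Xk') ↔ GoodPt f k := by
  constructor
  · intro H L _ w m
    obtain ⟨φ, hφ⟩ := Spec.map_surjective m.left
    obtain rfl : w = Spec.map (CommRingCat.ofHom φ.hom) ≫ k.str := by
      rw [CommRingCat.ofHom_hom, hφ]; exact (Over.w m).symm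
    obtain rfl : m = Over.homMk (Spec.map (CommRingCat.ofHom φ.hom)) rfl :=
      Over.OverMorphism.ext (by simpa using hφ.symm)
    exact fun Q fst snd sq => H L φ.hom Q fst snd sq
  · intro H k' _ φ Xk' a b sq
    exact H k' _ (Over.homMk (Spec.map (CommRingCat.ofHom φ)) rfl) Xk' a b sq

theorem surjective_flat_of_field {K L : Type u} [Field K] [Field L] (m : Spec (CommRingCat.of L) ⟶ Spec (CommRingCat.of K)) :
    Surjective m ∧ Flat m :=
  ⟨⟨fun t => ⟨IsLocalRing.closedPoint L, Subsingleton.elim (α := PrimeSpectrum K) _ t⟩⟩, inferInstance⟩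

/-- Reducedness descends along extensions of the field. -/
theorem redAt_descend (hX : IsAlgSpace X) (hY : IsAlgSpace Y) {f : X ⟶ Y} {K L : Type u} [Field K] [Field L]
    {v : Spec (CommRingCat.of K) ⟶ S} {w : Spec (CommRingCat.of L) ⟶ S} (m : Over.mk w ⟶ Over.mk v)
    (y : (yon S).obj (Over.mk v) ⟶ Y) (h : RedAt f ((yon S).map m ≫ y)) : RedAt f y := by
  have sq := IsPullback.of_hasPullback f y
  have hP : IsAlgSpace (pullback f y) := isAlgSpace_of_isPullback hY.diag hX (IsAlgSpace.yon_obj _) sq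
  refine (redAt_iff sq).2 ?_
  obtain ⟨A, a, ha, has⟩ := hP.atlas
  obtain ⟨g, hg⟩ := (yon S).map_surjective (a ≫ pullback.snd f y)
  have sq2 := IsPullback.of_hasPullback (pullback.snd f y) ((yon S).map m)
  have hQ : IsAlgSpace (pullback (pullback.snd f y) ((yon S).map m)) :=
    isAlgSpace_of_isPullback hY.diag hX (IsAlgSpace.yon_obj _) (sq2.paste_horiz sq)
  have sqA : IsPullback (pullback.fst g m) (pullback.snd g m) g m := IsPullback.of_hasPullback g m
  have sqA' : IsPullback ((yon S).map (pullback.fst g m)) ((yon S).map (pullback.snd g m)) (a ≫ pullback.snd f y) ((yon S).map m) := by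
    rw [← hg]; exact sqA.map (yon S)
  let a' := sq2.lift ((yon S).map (pullback.fst g m) ≫ a) ((yon S).map (pullback.snd g m))
    (by rw [Category.assoc]; exact sqA'.w)
  have sqa : IsPullback ((yon S).map (pullback.fst g m)) a' a (pullback.fst (pullback.snd f y) ((yon S).map m)) := by
    refine IsPullback.of_bot ?_ (sq2.lift_fst _ _ _).symm sq2
    rw [show a' ≫ pullback.snd (pullback.snd f y) ((yon S).map m) = _ from sq2.lift_snd _ _ _]
    exact sqA'
  have hA' : IsReduced (pullback g m).left :=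
    (etaleLocally_reduced_iff hQ (repWith_of_isPullback sqa ha) (repWith_of_isPullback sqa has)).1
      ((redAt_iff (sq2.paste_horiz sq)).1 h)
  refine ⟨A, a, ha, has, ?_⟩
  obtain ⟨hs, hf⟩ := surjective_flat_of_field (K := K) (L := L) m.left
  haveI := hA'
  have sqL : IsPullback (pullback.fst g m).left (pullback.snd g m).left g.left m.left := sqA.map (Over.forget S)
  haveI : Surjective (pullback.fst g m).left := MorphismProperty.of_isPullback sqL.flip hs
  haveI : Flat (pullback.fst g m).left := MorphismProperty.of_isPullback sqL.flip hf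
  exact Groth.L20.isReduced_of_surjective_of_flat (pullback.fst g m).left

theorem goodPt_of_rel (hX : IsAlgSpace X) (hY : IsAlgSpace Y) {f : X ⟶ Y} {p q : FieldPt Y}
    (h : FieldPt.Rel p q) (H : GoodPt f p) : GoodPt f q := by
  obtain ⟨Ω, _, w, a, b, e⟩ := (rel_iff_toHom p q).1 h
  intro L _ wL m
  obtain ⟨φb, hφb⟩ := Spec.map_surjective b.left
  obtain ⟨φm, hφm⟩ := Spec.map_surjective m.left
  obtain ⟨M, _, i₁, i₂, hi⟩ := FieldPt.exists_amalgamation φb.hom φm.hom
  let d₁ : Over.mk (Spec.map (CommRingCat.ofHom i₁) ≫ w) ⟶ Over.mk w := Over.homMk (Spec.map (CommRingCat.ofHom i₁)) rfl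
  have hleft : Spec.map (CommRingCat.ofHom i₁) ≫ b.left = Spec.map (CommRingCat.ofHom i₂) ≫ m.left := by
    rw [← hφb, ← hφm, ← Spec.map_comp, ← Spec.map_comp]
    exact congrArg Spec.map (CommRingCat.hom_ext hi)
  let d₂ : Over.mk (Spec.map (CommRingCat.ofHom i₁) ≫ w) ⟶ Over.mk wL := Over.homMk (Spec.map (CommRingCat.ofHom i₂)) (by
    show _ ≫ wL = _ ≫ w
    have e1 : m.left ≫ q.str = wL := Over.w m
    have e2 : b.left ≫ q.str = w := Over.w b
    rw [← e1, ← e2, ← Category.assoc, ← Category.assoc, hleft])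
  refine redAt_descend hX hY d₂ _ ?_
  have hd : d₁ ≫ b = d₂ ≫ m := Over.OverMorphism.ext hleft
  rw [← Category.assoc, ← Functor.map_comp, ← hd, Functor.map_comp, Category.assoc, ← e, ← Category.assoc,
    ← Functor.map_comp]
  exact H M _ (d₁ ≫ a)

theorem goodPt_iff_forall (hX : IsAlgSpace X) (hY : IsAlgSpace Y) {f : X ⟶ Y} {y : Points Y} {k₀ : FieldPt Y}
    (hk₀ : Points.mk k₀ = y) : (∀ k, Points.mk k = y → GoodPt f k) ↔ GoodPt f k₀ :=
  ⟨fun H => H k₀ hk₀, fun H _ hk => goodPt_of_rel hX hY (Points.mk_eq_mk_iff.1 (hk₀.trans hk.symm)) H⟩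

theorem tfae_geomReduced (hX : IsAlgSpace X) (hY : IsAlgSpace Y) (f : X ⟶ Y) (y : Points Y) :
    [∃ k : FieldPt Y, Points.mk k = y ∧ GoodPt f k, ∀ k : FieldPt Y, Points.mk k = y → GoodPt f k,
      ∀ k : FieldPt Y, Points.mk k = y → RedAt f k.toHom].TFAE := by
  tfae_have 1 → 2 := fun ⟨k, hk, h⟩ => (goodPt_iff_forall hX hY hk).2 h
  tfae_have 2 → 1 := fun H => by
    obtain ⟨k, hk⟩ := Points.mk_surjective y
    exact ⟨k, hk, H k hk⟩
  tfae_have 2 → 3 := fun H k hk => by
    have := H k hk k.K k.str (𝟙 _)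
    rw [CategoryTheory.Functor.map_id] at this
    simpa using this
  tfae_have 3 → 2 := fun H k hk L _ w m => by
    let p : FieldPt Y := ⟨L, w, Y.obj.map m.op k.val⟩
    have hp : p.toHom = (yon S).map m ≫ k.toHom := by
      apply (J S).uliftYonedaEquiv.injective
      rw [← GrothendieckTopology.uliftYonedaEquiv_naturality, FieldPt.uliftYonedaEquiv_toHom,
        FieldPt.uliftYonedaEquiv_toHom]
    rw [← hp]
    refine H p (Eq.trans (Points.sound ⟨L, inferInstance, w, 𝟙 _, m, ?_⟩) hk)
    show Y.obj.map (𝟙 _) p.val = _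
    rw [CategoryTheory.Functor.map_id]
    rfl
  tfae_finish

/-- On a chart, geometric reducedness of the fibre is that of a scheme morphism. -/
theorem goodPt_ofPt_iff (hX : IsAlgSpace X) (hY : IsAlgSpace Y) {f : X ⟶ Y} {V W : Over S}
    (b : (yon S).obj V ⟶ Y) {P : Sp S} {fP : P ⟶ X} {sP : P ⟶ (yon S).obj V} (sq : IsPullback fP sP f b)
    {c : (yon S).obj W ⟶ P} (hc : RepWith @Etale c) (hcs : RepWith @Surjective c) (g : W ⟶ V)
    (hg : c ≫ sP = (yon S).map g) (v : V.left) :
    GoodPt f (FieldPt.ofPt b v) ↔ GeometricallyReduced (g.left.fiberToSpecResidueField v) := by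
  have key : ∀ (L : Type u) [Field L] (w : Spec (CommRingCat.of L) ⟶ S) (n : Over.mk w ⟶ V),
      RedAt f ((yon S).map n ≫ b) ↔ IsReduced (pullback g.left n.left) := by
    intro L _ w n
    have sq2 := IsPullback.of_hasPullback sP ((yon S).map n)
    have hQ : IsAlgSpace (pullback sP ((yon S).map n)) :=
      isAlgSpace_of_isPullback hY.diag hX (IsAlgSpace.yon_obj _) (sq2.paste_horiz sq)
    have sqW : IsPullback (pullback.fst g n) (pullback.snd g n) g n := IsPullback.of_hasPullback g n
    have sqW' : IsPullback ((yon S).map (pullback.fst g n)) ((yon S).map (pullback.snd g n)) (c ≫ sP) ((yon S).map n) := by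
      rw [hg]; exact sqW.map (yon S)
    let c' := sq2.lift ((yon S).map (pullback.fst g n) ≫ c) ((yon S).map (pullback.snd g n))
      (by rw [Category.assoc]; exact sqW'.w)
    have sqc : IsPullback ((yon S).map (pullback.fst g n)) c' c (pullback.fst sP ((yon S).map n)) := by
      refine IsPullback.of_bot ?_ (sq2.lift_fst _ _ _).symm sq2
      rw [show c' ≫ pullback.snd sP ((yon S).map n) = _ from sq2.lift_snd _ _ _]
      exact sqW'
    rw [redAt_iff (sq2.paste_horiz sq),
      etaleLocally_reduced_iff hQ (repWith_of_isPullback sqc hc) (repWith_of_isPullback sqc hcs)]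
    let e := (sqW.map (Over.forget S)).isoPullback
    exact ⟨fun h => @isReduced_of_isOpenImmersion _ _ e.inv _ h, fun h => @isReduced_of_isOpenImmersion _ _ e.hom _ h⟩
  rw [geometricallyReduced_fibre_iff_field]
  have hcomp : ∀ (L : Type u) [Field L] (w : Spec (CommRingCat.of L) ⟶ S) (m : Over.mk w ⟶ (FieldPt.ofPt b v).pt),
      RedAt f ((yon S).map m ≫ (FieldPt.ofPt b v).toHom) ↔
        IsReduced (pullback g.left (m.left ≫ V.left.fromSpecResidueField v)) := fun L _ w m => by
    rw [FieldPt.toHom_ofPt, ← Category.assoc, ← Functor.map_comp]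
    exact key L _ _
  constructor
  · intro H L _ ψ
    exact (hcomp L (Spec.map ψ ≫ (FieldPt.ofPt b v).str) (Over.homMk (Spec.map ψ) rfl)).1 (H L _ _)
  · intro H L _ w m
    obtain ⟨ψ, hψ⟩ := Spec.map_surjective m.left
    refine (hcomp L w m).2 ?_
    have := H L ψ
    rw [← hψ]
    exact this

end L02.SpRed
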