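import Groth.Agent.L07.GeomRk.Reduced
import Groth.Agent.L23.ReducedStalk
import Mathlib.AlgebraicGeometry.PullbackCarrier

/-!
Geometric reducedness at a point of the fibre: invariance under étale maps of the source.
-/

set_option autoImplicit false
set_option linter.style.haveILetI false
set_option backward.isDefEq.respectTransparency.types false
set_option backward.isDefEq.respectTransparency false
universe u

open CategoryTheory CategoryTheory.Limits AlgebraicGeometry Topology

namespace L02.SpRed

variable {U V : Scheme.{u}}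

/-- The fibre of `h` through `u` is geometrically reduced at `u`, tested on field-valued points. -/
def GPt (h : U ⟶ V) (u : U) : Prop :=
  ∀ (K : Type u) [Field K] (σ : Spec (CommRingCat.of K) ⟶ V) (z : ↥(pullback h σ)),
    pullback.fst h σ z = u → _root_.IsReduced ((pullback h σ).presheaf.stalk z)

theorem isReduced_stalk_of_isIso {A B : Scheme.{u}} (e : A ⟶ B) [IsIso e] (a : A)
    [_root_.IsReduced (B.presheaf.stalk (e a))] : _root_.IsReduced (A.presheaf.stalk a) :=
  Groth.L23.isReduced_stalk_of_etale e a

theorem gPt_iff (h : U ⟶ V) (u : U) :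
    GPt h u ↔ FBase.IsGeomReducedAt (h.fiberToSpecResidueField (h u)) (h.asFiber u) := by
  constructor
  · intro H K _ hK x' hx'
    letI : Algebra ↑(V.residueField (h u)) K := hK
    let σ : Spec (CommRingCat.of K) ⟶ V :=
      Spec.map (CommRingCat.ofHom (algebraMap (V.residueField (h u)) K)) ≫ V.fromSpecResidueField (h u)
    let e : FBase.bc (k := ↑(V.residueField (h u))) (h.fiberToSpecResidueField (h u)) K ≅ pullback h σ :=
      pullbackLeftPullbackSndIso h (V.fromSpecResidueField (h u)) (Spec.map (CommRingCat.ofHom (algebraMap (V.residueField (h u)) K)))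
    have he : e.hom ≫ pullback.fst h σ = FBase.bcπ (k := ↑(V.residueField (h u))) (h.fiberToSpecResidueField (h u)) K ≫ h.fiberι (h u) :=
      pullbackLeftPullbackSndIso_hom_fst _ _ _
    haveI := H K σ (e.hom x') (by
      rw [← Scheme.Hom.comp_apply, he, Scheme.Hom.comp_apply, hx', h.fiberι_asFiber])
    exact isReduced_stalk_of_isIso e.hom x'
  · intro H K _ σ z hz
    subst hz
    let v := h (pullback.fst h σ z)
    have hv : ∀ t, σ t = v := fun t => by
      rw [show t = pullback.snd h σ z from Subsingleton.elim _ _, ← Scheme.Hom.comp_apply, ← pullback.condition,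
        Scheme.Hom.comp_apply]
    obtain ⟨ψ, hψ⟩ : ∃ ψ : V.residueField v ⟶ CommRingCat.of K, Spec.map ψ ≫ V.fromSpecResidueField v = σ := by
      obtain ⟨⟨w, φ⟩, hσ⟩ := (V.SpecToEquivOfField K).symm.surjective σ
      obtain rfl : v = w := by
        have := hv (IsLocalRing.closedPoint K)
        rw [← hσ] at this
        simpa [Scheme.SpecToEquivOfField] using this.symm
      exact ⟨φ, hσ⟩
    letI : Algebra (V.residueField v) K := ψ.hom.toAlgebra
    have hsigma : Spec.map (CommRingCat.ofHom (algebraMap (V.residueField v) K)) ≫ V.fromSpecResidueField v = σ := hψ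
    let e : FBase.bc (k := ↑(V.residueField v)) (h.fiberToSpecResidueField v) K ≅ pullback h σ :=
      pullbackLeftPullbackSndIso h (V.fromSpecResidueField v) (Spec.map (CommRingCat.ofHom (algebraMap (V.residueField v) K))) ≪≫
        pullback.congrHom rfl hsigma
    have he : e.hom ≫ pullback.fst h σ = FBase.bcπ (k := ↑(V.residueField v)) (h.fiberToSpecResidueField v) K ≫ h.fiberι v := by
      simp [e, FBase.bcπ, Scheme.Hom.fiberι]
      rfl
    let z' := e.inv z
    have hz' : e.hom z' = z := by rw [← Scheme.Hom.comp_apply, e.inv_hom_id]; rfl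
    have hpt : FBase.bcπ (k := ↑(V.residueField v)) (h.fiberToSpecResidueField v) K z' = h.asFiber (pullback.fst h σ z) := by
      apply (h.fiberι v).isEmbedding.injective
      rw [← Scheme.Hom.comp_apply, ← he, Scheme.Hom.comp_apply, hz']
      exact (h.fiberι_asFiber _).symm
    haveI := @H K _ ψ.hom.toAlgebra z' hpt
    rw [← hz']
    exact Groth.L23.isReduced_stalk_of_etale' e.hom z'

/-- Invariance under étale maps of the source. -/
theorem gPt_comp_iff {U' : Scheme.{u}} (p : U' ⟶ U) [Etale p] (h : U ⟶ V) (u' : U') :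
    GPt (p ≫ h) u' ↔ GPt h (p u') := by
  have key : ∀ (K : Type u) [Field K] (σ : Spec (CommRingCat.of K) ⟶ V),
      ∃ π : pullback (p ≫ h) σ ⟶ pullback h σ, IsPullback (pullback.fst (p ≫ h) σ) π p (pullback.fst h σ) ∧
        Etale π := fun K _ σ => by
    let π := pullback.lift (f := h) (g := σ) (pullback.fst (p ≫ h) σ ≫ p) (pullback.snd (p ≫ h) σ)
      (by rw [Category.assoc, pullback.condition])
    have sq : IsPullback (pullback.fst (p ≫ h) σ) π p (pullback.fst h σ) := by
      refine IsPullback.of_bot ?_ (pullback.lift_fst _ _ _).symm (IsPullback.of_hasPullback h σ)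
      rw [show π ≫ pullback.snd h σ = pullback.snd (p ≫ h) σ from pullback.lift_snd _ _ _]
      exact IsPullback.of_hasPullback (p ≫ h) σ
    exact ⟨π, sq, MorphismProperty.of_isPullback sq ‹Etale p›⟩
  constructor
  · intro H K _ σ z hz
    obtain ⟨π, sq, hπ⟩ := key K σ
    obtain ⟨z', hz'1, hz'2⟩ := Scheme.exists_preimage_of_isPullback sq u' z hz.symm
    haveI := H K σ z' hz'1
    rw [← hz'2]
    exact Groth.L23.isReduced_stalk_of_etale' π z'
  · intro H K _ σ z' hz'
    obtain ⟨π, sq, hπ⟩ := key K σ
    haveI := H K σ (π z') (by rw [← Scheme.Hom.comp_apply, ← sq.w, Scheme.Hom.comp_apply, hz'])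
    exact Groth.L23.isReduced_stalk_of_etale π z'

theorem geometricallyReduced_fibre_iff (h : U ⟶ V) [LocallyOfFinitePresentation h] (v : V) :
    GeometricallyReduced (h.fiberToSpecResidueField v) ↔ ∀ u, h u = v → GPt h u :=
  (Groth.L07.GeomRk.geometricallyReduced_iff (h.fiberToSpecResidueField v)).trans
    ((L02.FibDepth.forall_fiber_iff (f := h)
      (P := fun s w => FBase.IsGeomReducedAt (h.fiberToSpecResidueField s) w) v).trans
      (forall_congr' fun x => forall_congr' fun _ => (gPt_iff h x).symm))

theorem geometricallyReduced_fibre_iff_field (h : U ⟶ V) (v : V) :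
    GeometricallyReduced (h.fiberToSpecResidueField v) ↔
      ∀ (L : Type u) [Field L] (ψ : V.residueField v ⟶ CommRingCat.of L),
        IsReduced (pullback h (Spec.map ψ ≫ V.fromSpecResidueField v)) := by
  constructor
  · intro H L _ ψ
    haveI := H.geometrically_isReduced (Spec.map ψ) _ _ (IsPullback.of_hasPullback (h.fiberToSpecResidueField v) (Spec.map ψ))
    exact @isReduced_of_isOpenImmersion _ _ (pullbackLeftPullbackSndIso h (V.fromSpecResidueField v) (Spec.map ψ)).inv _ this
  · intro H
    refine ⟨fun L _ t Z fst snd hZ => ?_⟩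
    obtain ⟨ψ, rfl⟩ := Spec.map_surjective t
    have := H L ψ
    exact @isReduced_of_isOpenImmersion _ _
      (hZ.isoPullback.hom ≫ (pullbackLeftPullbackSndIso h (V.fromSpecResidueField v) (Spec.map ψ)).hom) _ this

end L02.SpRed
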